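import Mathlib.RingTheory.Henselian
import Mathlib.RingTheory.Polynomial.GaussLemma
import Mathlib.FieldTheory.IsSepClosed
import Mathlib.FieldTheory.Perfect
import Mathlib.RingTheory.LocalRing.ResidueField.Basic
import Mathlib.RingTheory.Localization.AtPrime.Basic
import Mathlib.RingTheory.LocalRing.ResidueField.Ideal

/-!
# Normal domains with separably closed fraction field
-/

set_option autoImplicit false
universe u v

namespace Groth.Agent.SepClosed

open Polynomial

variable {A : Type u} [CommRing A] [IsDomain A] [IsIntegrallyClosed A]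
  (K : Type v) [Field K] [Algebra A K] [IsFractionRing A K] [IsSepClosed K]

include K in
/-- A monic polynomial of positive degree has a monic factor that is either linear or has zero
derivative. -/
theorem exists_factor (f : A[X]) (hf : f.Monic) (hdeg : 0 < f.natDegree) :
    ∃ g q : A[X], g.Monic ∧ q.Monic ∧ f = g * q ∧ 0 < g.natDegree ∧
      (g.natDegree = 1 ∨ derivative g = 0) := by
  have hmapinj := IsFractionRing.injective A K
  have hfK : (f.map (algebraMap A K)).natDegree = f.natDegree := natDegree_map_eq_of_injective hmapinj f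
  obtain ⟨p, hp, hpdvd⟩ := exists_irreducible_of_natDegree_pos (f := f.map (algebraMap A K)) (by omega)
  obtain ⟨g, hg⟩ := IsIntegrallyClosed.eq_map_mul_C_of_dvd K hf hpdvd
  have hc : p.leadingCoeff ≠ 0 := leadingCoeff_ne_zero.mpr hp.ne_zero
  have hgK : g.map (algebraMap A K) = p * C p.leadingCoeff⁻¹ :=
    calc g.map (algebraMap A K) = g.map (algebraMap A K) * C (p.leadingCoeff * p.leadingCoeff⁻¹) := by
            rw [mul_inv_cancel₀ hc, C_1, mul_one]
      _ = g.map (algebraMap A K) * C p.leadingCoeff * C p.leadingCoeff⁻¹ := by rw [C_mul, mul_assoc]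
      _ = p * C p.leadingCoeff⁻¹ := by rw [hg]
  have hirr : Irreducible (g.map (algebraMap A K)) := by
    rw [hgK]; exact irreducible_mul_leadingCoeff_inv.mpr hp
  have hgm : g.Monic := by
    apply monic_of_injective hmapinj
    rw [hgK]; exact monic_mul_leadingCoeff_inv hp.ne_zero
  have hdvd : g ∣ f := by
    apply (map_dvd_map _ hmapinj hgm).mp
    rw [hgK]
    exact dvd_trans (Associated.dvd (associated_mul_unit_left _ _ (isUnit_C.mpr (inv_ne_zero hc).isUnit))) hpdvd
  obtain ⟨q, hq⟩ := hdvd
  have hd : (g.map (algebraMap A K)).natDegree = g.natDegree := natDegree_map_eq_of_injective hmapinj g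
  have hgpos : 0 < g.natDegree := hd ▸ hirr.natDegree_pos
  refine ⟨g, q, hgm, Monic.of_mul_monic_left hgm (hq ▸ hf), hq, hgpos, ?_⟩
  by_cases h0 : derivative g = 0
  · exact Or.inr h0
  · left
    have hsep : (g.map (algebraMap A K)).Separable := by
      rw [separable_iff_derivative_ne_zero hirr, derivative_map]
      exact Polynomial.map_ne_zero_iff hmapinj |>.mpr h0
    rw [← hd]
    exact natDegree_eq_of_degree_eq_some (IsSepClosed.degree_eq_one_of_irreducible K hirr hsep)

theorem linear_root {g : A[X]} (hg : g.Monic) (h1 : g.natDegree = 1) : g.IsRoot (-g.coeff 0) := by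
  rw [hg.eq_X_add_C h1]; simp

variable [IsLocalRing A]

include K in
theorem exists_root_of_simple : ∀ (n : ℕ) (f : A[X]), f.natDegree = n → f.Monic → ∀ a₀ : A,
    f.eval a₀ ∈ IsLocalRing.maximalIdeal A → IsUnit (f.derivative.eval a₀) →
    ∃ a : A, f.IsRoot a ∧ a - a₀ ∈ IsLocalRing.maximalIdeal A := by
  intro n
  induction n using Nat.strong_induction_on with
  | _ n ih =>
  intro f hn hf a₀ h₀ h₁
  by_cases hdeg : f.natDegree = 0
  · rw [hf.natDegree_eq_zero.mp hdeg] at h₁
    simp at h₁
  obtain ⟨g, q, hg, hq, rfl, hgd, hcase⟩ := exists_factor K f hf (Nat.pos_of_ne_zero hdeg)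
  rw [hg.natDegree_mul hq] at hn
  rw [eval_mul] at h₀
  rcases (IsLocalRing.maximalIdeal.isMaximal A).isPrime.mem_or_mem h₀ with h | h
  · rcases hcase with h1 | h1
    · refine ⟨-g.coeff 0, by simp [IsRoot, (linear_root hg h1).eq_zero], ?_⟩
      rw [hg.eq_X_add_C h1] at h
      simp only [eval_add, eval_X, eval_C] at h
      convert neg_mem h using 1
      ring
    · exfalso
      rw [derivative_mul, h1, zero_mul, zero_add, eval_mul] at h₁
      exact (IsLocalRing.mem_maximalIdeal _).mp (Ideal.mul_mem_right _ _ h) h₁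
  · have hu : IsUnit (q.derivative.eval a₀) := by
      rw [derivative_mul, eval_add, eval_mul, eval_mul] at h₁
      by_contra hnu
      exact (IsLocalRing.mem_maximalIdeal _).mp
        (Ideal.add_mem _ (Ideal.mul_mem_left _ _ h)
          (Ideal.mul_mem_left _ _ ((IsLocalRing.mem_maximalIdeal _).mpr hnu))) h₁
    obtain ⟨a, ha, ha'⟩ := ih q.natDegree (by omega) q rfl hq a₀ h hu
    exact ⟨a, by simp [IsRoot, ha.eq_zero], ha'⟩

include K in
theorem henselianLocalRing : HenselianLocalRing A :=
  { is_henselian := fun f hf a₀ h₀ h₁ => exists_root_of_simple K _ f rfl hf a₀ h₀ h₁ }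

include K in
theorem isSepClosed_residueField : IsSepClosed (IsLocalRing.ResidueField A) := by
  refine IsSepClosed.of_exists_root _ fun p hp hirr hsep => ?_
  obtain ⟨f, hfp, hfd, hf⟩ := lifts_and_degree_eq_and_monic
    (map_surjective (IsLocalRing.residue A) IsLocalRing.residue_surjective p) hp
  have hdeg : 0 < f.natDegree := by
    rw [natDegree_eq_natDegree hfd]
    exact hirr.natDegree_pos
  obtain ⟨g, q, hg, hq, rfl, hgd, hcase⟩ := exists_factor K f hf hdeg
  rcases hcase with h1 | h1
  · exact ⟨IsLocalRing.residue A (-g.coeff 0), by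
      rw [← hfp, eval_map, eval₂_at_apply, eval_mul, (linear_root hg h1).eq_zero, zero_mul, map_zero]⟩
  · exfalso
    rw [Polynomial.map_mul] at hfp
    have hgsep : (g.map (IsLocalRing.residue A)).Separable := (hfp ▸ hsep).of_mul_left
    rw [separable_def, derivative_map, h1, Polynomial.map_zero, isCoprime_zero_right] at hgsep
    have := natDegree_eq_zero_of_isUnit hgsep
    rw [hg.natDegree_map] at this
    omega

include K in
theorem exists_pow_sub_mem (q : ℕ) [hq : Fact q.Prime] [CharP (IsLocalRing.ResidueField A) q]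
    (hbot : IsLocalRing.maximalIdeal A ≠ ⊥) (a : A) : ∃ x : A, x ^ q - a ∈ IsLocalRing.maximalIdeal A := by
  have hinj := IsFractionRing.injective A K
  by_cases hqK : (q : K) = 0
  · obtain ⟨π, hπ, hπ0⟩ := Submodule.exists_mem_ne_zero_of_ne_bot hbot
    let f : A[X] := X ^ q + (C π * X - C a)
    have hdegrest : (C π * X - C a).degree < (q : WithBot ℕ) := by
      refine lt_of_le_of_lt (degree_linear_le (a := π) (b := -a) |>.trans' (by simp [sub_eq_add_neg])) ?_
      exact_mod_cast hq.out.one_lt
    have hf : f.Monic := monic_X_pow_add hdegrest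
    have hfdeg : f.degree = q := by
      simp only [f]; rw [degree_add_eq_left_of_degree_lt (by rwa [degree_X_pow]), degree_X_pow]
    have hK : (f.map (algebraMap A K)).degree ≠ 0 := by
      rw [degree_map_eq_of_injective hinj, hfdeg]; exact_mod_cast hq.out.ne_zero
    have hsep : (f.map (algebraMap A K)).Separable := by
      rw [separable_def, derivative_map]
      have hd : f.derivative.map (algebraMap A K) = C (algebraMap A K π) := by
        have hqA : (q : A) = 0 := hinj (by rw [map_natCast, map_zero, hqK])
        simp [f, derivative_X_pow, hqA]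
      rw [hd]
      exact isCoprime_one_right.of_isCoprime_of_dvd_right (isUnit_C.mpr ((map_ne_zero_iff (algebraMap A K) hinj).mpr hπ0).isUnit).dvd
    obtain ⟨x, hx⟩ := IsSepClosed.exists_root _ hK hsep
    have hxint : IsIntegral A x := ⟨f, hf, by rwa [IsRoot, eval_map] at hx⟩
    obtain ⟨y, rfl⟩ := IsIntegrallyClosed.isIntegral_iff.mp hxint
    rw [IsRoot, eval_map, eval₂_at_apply, map_eq_zero_iff _ hinj] at hx
    refine ⟨y, ?_⟩
    simp only [f, eval_add, eval_pow, eval_X, eval_sub, eval_mul, eval_C] at hx
    rw [show y ^ q - a = -(π * y) by linear_combination hx]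
    exact neg_mem (Ideal.mul_mem_right _ _ hπ)
  · have : NeZero (q : K) := ⟨hqK⟩
    obtain ⟨x, hx⟩ := IsSepClosed.exists_pow_nat_eq (algebraMap A K a) q
    have hxint : IsIntegral A x := IsIntegral.of_pow hq.out.pos (hx ▸ isIntegral_algebraMap)
    obtain ⟨y, rfl⟩ := IsIntegrallyClosed.isIntegral_iff.mp hxint
    rw [← map_pow] at hx
    exact ⟨y, by rw [hinj hx, sub_self]; exact zero_mem _⟩

include K in
theorem isAlgClosed_residueField (hbot : IsLocalRing.maximalIdeal A ≠ ⊥) :
    IsAlgClosed (IsLocalRing.ResidueField A) := by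
  haveI := isSepClosed_residueField (A := A) K
  obtain ⟨q, hq⟩ := CharP.exists (IsLocalRing.ResidueField A)
  haveI : PerfectField (IsLocalRing.ResidueField A) := by
    rcases CharP.char_is_prime_or_zero (IsLocalRing.ResidueField A) q with h | h
    · haveI := Fact.mk h
      haveI : PerfectRing (IsLocalRing.ResidueField A) q := PerfectRing.ofSurjective _ q (fun b => by
        obtain ⟨a, rfl⟩ := IsLocalRing.residue_surjective b
        obtain ⟨x, hx⟩ := exists_pow_sub_mem K q hbot a
        refine ⟨IsLocalRing.residue A x, ?_⟩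
        rw [frobenius_def, ← map_pow]
        exact (Ideal.Quotient.mk_eq_mk_iff_sub_mem _ _).mpr hx)
      exact PerfectRing.toPerfectField _ q
    · subst h
      haveI := CharP.charP_to_charZero (IsLocalRing.ResidueField A)
      infer_instance
  exact IsSepClosed.isAlgClosed_of_perfectField (IsLocalRing.ResidueField A)

end Groth.Agent.SepClosed
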